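import Mathlib

/-!
# Localisation at a maximal ideal, modulo a power of it
-/

set_option autoImplicit false

universe u

namespace Groth.Agent.JetBCLib

variable {B A : Type u} [CommRing B] [CommRing A] [Algebra B A] (p : Ideal B) [p.IsMaximal]
  [IsLocalization.AtPrime A p] [IsLocalRing A] {M L : Type u} [AddCommGroup M] [Module B M]
  [AddCommGroup L] [Module B L] [Module A L] [IsScalarTower B A L] (f : M →ₗ[B] L)
  [IsLocalizedModule p.primeCompl f] (n : ℕ)

theorem isUnit_mod_pow (s : p.primeCompl) : ∃ t : B, t * (s : B) - 1 ∈ p ^ n := by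
  obtain ⟨t, q, hq, h⟩ := ‹p.IsMaximal›.exists_inv s.2
  obtain ⟨c, hc⟩ := sub_dvd_pow_sub_pow (1 : B) (1 - q) n
  rcases n with _ | n
  · exact ⟨0, by simp⟩
  refine ⟨t * ∑ i ∈ Finset.range (n + 1), q ^ i, ?_⟩
  have ht : t * (s : B) = 1 - q := by linear_combination h
  have hgeom := geom_sum_mul_neg q (n + 1)
  have : t * (∑ i ∈ Finset.range (n + 1), q ^ i) * (s : B) - 1 = -q ^ (n + 1) := by
    linear_combination (∑ i ∈ Finset.range (n + 1), q ^ i) * ht + hgeom
  rw [this]
  exact neg_mem (Ideal.pow_mem_pow hq _)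

theorem map_mem (m : M) (hm : m ∈ p ^ n • (⊤ : Submodule B M)) :
    f m ∈ IsLocalRing.maximalIdeal A ^ n • (⊤ : Submodule A L) := by
  refine Submodule.smul_induction_on hm (fun b hb y _ => ?_) (fun y z hy hz => ?_)
  · rw [map_smul, ← algebraMap_smul A b]
    refine Submodule.smul_mem_smul ?_ trivial
    rw [← IsLocalization.AtPrime.map_eq_maximalIdeal p A, ← Ideal.map_pow]
    exact Ideal.mem_map_of_mem _ hb
  · rw [map_add]; exact add_mem hy hz

theorem exists_smul_eq (a : L) (ha : a ∈ IsLocalRing.maximalIdeal A ^ n • (⊤ : Submodule A L)) :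
    ∃ s : p.primeCompl, ∃ y ∈ p ^ n • (⊤ : Submodule B M), (s : B) • a = f y := by
  rw [← IsLocalization.AtPrime.map_eq_maximalIdeal p A, ← Ideal.map_pow] at ha
  refine Submodule.smul_induction_on ha (fun c hc l _ => ?_) (fun y z hy hz => ?_)
  · obtain ⟨⟨b, s⟩, hbs⟩ := (IsLocalization.mem_map_algebraMap_iff p.primeCompl A).1 hc
    obtain ⟨⟨m, t⟩, hmt⟩ := IsLocalizedModule.surj p.primeCompl f l
    refine ⟨s * t, (b : B) • m, Submodule.smul_mem_smul b.2 trivial, ?_⟩
    rw [map_smul, ← hmt, Submonoid.smul_def, Submonoid.coe_mul, ← algebraMap_smul A ((s : B) * t),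
      ← algebraMap_smul A (b : B), ← algebraMap_smul A (t : B) l, smul_smul, smul_smul, map_mul,
      ← hbs]
    congr 1
    ring
  · obtain ⟨s, y', hy', hy⟩ := hy
    obtain ⟨t, z', hz', hz⟩ := hz
    refine ⟨s * t, (t : B) • y' + (s : B) • z', add_mem (Submodule.smul_mem _ _ hy')
      (Submodule.smul_mem _ _ hz'), ?_⟩
    rw [Submonoid.coe_mul, smul_add, map_add, map_smul, map_smul, ← hy, ← hz, smul_smul, smul_smul,
      mul_comm (t : B)]

theorem map_mem_iff (m : M) : f m ∈ IsLocalRing.maximalIdeal A ^ n • (⊤ : Submodule A L) ↔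
    m ∈ p ^ n • (⊤ : Submodule B M) := by
  refine ⟨fun h => ?_, map_mem p f n m⟩
  obtain ⟨s, y, hy, hsy⟩ := exists_smul_eq p f n _ h
  rw [← map_smul] at hsy
  obtain ⟨v, hv⟩ := IsLocalizedModule.exists_of_eq (S := p.primeCompl) hsy
  obtain ⟨t, ht⟩ := isUnit_mod_pow p n (v * s)
  have h1 : ((v * s : p.primeCompl) : B) • m ∈ p ^ n • (⊤ : Submodule B M) := by
    rw [Submonoid.coe_mul, mul_smul]
    rw [Submonoid.smul_def, Submonoid.smul_def] at hv
    rw [hv]
    exact Submodule.smul_mem _ _ hy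
  have h2 : m = t • (((v * s : p.primeCompl) : B) • m) - (t * ((v * s : p.primeCompl) : B) - 1) • m := by
    rw [smul_smul, sub_smul, one_smul]; abel
  rw [h2]
  exact sub_mem (Submodule.smul_mem _ _ h1) (Submodule.smul_mem_smul ht trivial)

include p in
theorem exists_map_sub_mem (a : L) :
    ∃ m : M, f m - a ∈ IsLocalRing.maximalIdeal A ^ n • (⊤ : Submodule A L) := by
  obtain ⟨⟨m, s⟩, h⟩ := IsLocalizedModule.surj p.primeCompl f a
  obtain ⟨t, ht⟩ := isUnit_mod_pow p n s
  refine ⟨t • m, ?_⟩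
  have : f (t • m) - a = (t * (s : B) - 1) • a := by
    rw [map_smul, ← h, Submonoid.smul_def, smul_smul, sub_smul, one_smul]
  rw [this, ← algebraMap_smul A (t * (s : B) - 1)]
  refine Submodule.smul_mem_smul ?_ trivial
  rw [← IsLocalization.AtPrime.map_eq_maximalIdeal p A, ← Ideal.map_pow]
  exact Ideal.mem_map_of_mem _ ht

/-- Every element of the localisation is congruent to an element of a given set iff every
element of the module is. -/
theorem forall_exists_iff {σ : Type*} (e : σ → M) :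
    (∀ a : L, ∃ s, f (e s) - a ∈ IsLocalRing.maximalIdeal A ^ n • (⊤ : Submodule A L)) ↔
      ∀ m : M, ∃ s, e s - m ∈ p ^ n • (⊤ : Submodule B M) := by
  constructor
  · intro h m
    obtain ⟨s, hs⟩ := h (f m)
    exact ⟨s, (map_mem_iff p f n _).1 (by rwa [map_sub])⟩
  · intro h a
    obtain ⟨m, hm⟩ := exists_map_sub_mem (A := A) p f n a
    obtain ⟨s, hs⟩ := h m
    refine ⟨s, ?_⟩
    have := add_mem (map_mem p f n _ hs) hm
    rwa [map_sub, sub_add_sub_cancel] at this

end Groth.Agent.JetBCLib
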