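import Groth.Agent.BCLib.SecBC
import Groth.Agent.JetBCLib.Alg

/-!
# Contracting sections of a base change along a retraction of the scalars
-/

set_option autoImplicit false
set_option backward.isDefEq.respectTransparency false
set_option backward.defeqAttrib.useBackward true
set_option linter.style.haveILetI false

universe u

open CategoryTheory CategoryTheory.Limits AlgebraicGeometry TopologicalSpace Opposite
open Groth.Agent.CohBase Groth.Agent.ProjCoh Groth.Agent.FormalLib Groth.Agent.PullbackMod Groth.Agent.BCLib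
open scoped TensorProduct

noncomputable section

namespace Groth.Agent.JetBCLib

variable {R R' : CommRingCat.{u}} {X X' : Scheme.{u}} (f : X ⟶ Spec R) (f' : X' ⟶ Spec R')
  (g : X' ⟶ X) (φ : R ⟶ R') (G : X.Modules) (ψ : R' →+ R)

/-- `c` contracts sections of the inverse image along `ψ`. -/
def IsContr (W : X.Opens)
    (c : Γ((Scheme.Modules.pullback g).obj G, g ⁻¹ᵁ W) →+ Γ(G, W)) : Prop :=
  ∀ (r : R') (m : Γ(G, W)),
    c ((secHom f' (g ⁻¹ᵁ W)).hom r • pullMap g G le_rfl m) = (secHom f W).hom (ψ r) • m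

variable {f f' g φ G ψ}
variable (hc : IsPullback g f' f (Spec.map φ)) [Coh.IsQCoh G]

include hc in
theorem span_induction {W : X.Opens} (hW : IsAffineOpen W)
    {P : Γ((Scheme.Modules.pullback g).obj G, g ⁻¹ᵁ W) → Prop} (h0 : P 0)
    (hs : ∀ (r : R') (m : Γ(G, W)), P ((secHom f' (g ⁻¹ᵁ W)).hom r • pullMap g G le_rfl m))
    (ha : ∀ a b, P a → P b → P (a + b)) (x) : P x := by
  letI := φ.hom.toAlgebra
  letI := Module.compHom (Sec (Coh.toGlobal (A := R') f') ((Scheme.Modules.pullback g).obj G)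
    (g ⁻¹ᵁ W)) φ.hom
  haveI : IsScalarTower R R' (Sec (Coh.toGlobal (A := R') f') ((Scheme.Modules.pullback g).obj G)
    (g ⁻¹ᵁ W)) := .of_algebraMap_smul fun _ _ => rfl
  obtain ⟨t, rfl⟩ := (isBaseChange_secPull hc G hW (W' := g ⁻¹ᵁ W) rfl).equiv.surjective x
  induction t using TensorProduct.induction_on with
  | zero => rwa [map_zero]
  | tmul r m =>
    rw [IsBaseChange.equiv_tmul]
    exact hs r m
  | add a b iha ihb => rw [map_add]; exact ha _ _ iha ihb

include hc in
theorem IsContr.ext {W : X.Opens} (hW : IsAffineOpen W)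
    {c d : Γ((Scheme.Modules.pullback g).obj G, g ⁻¹ᵁ W) →+ Γ(G, W)}
    (h : IsContr f f' g G ψ W c) (h' : IsContr f f' g G ψ W d) : c = d :=
  AddMonoidHom.ext fun x => span_induction hc hW (P := fun x => c x = d x)
    ((map_zero c).trans (map_zero d).symm) (fun r m => (h r m).trans (h' r m).symm)
    (fun a b ha hb => by rw [map_add, map_add, ha, hb]) x

include hc in
theorem exists_isContr (hψ : ∀ (r : R) (r' : R'), ψ (φ.hom r * r') = r * ψ r') {W : X.Opens}
    (hW : IsAffineOpen W) : ∃ c, IsContr f f' g G ψ W c := by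
  letI := φ.hom.toAlgebra
  letI := Module.compHom (Sec (Coh.toGlobal (A := R') f') ((Scheme.Modules.pullback g).obj G)
    (g ⁻¹ᵁ W)) φ.hom
  haveI : IsScalarTower R R' (Sec (Coh.toGlobal (A := R') f') ((Scheme.Modules.pullback g).obj G)
    (g ⁻¹ᵁ W)) := .of_algebraMap_smul fun _ _ => rfl
  let h := isBaseChange_secPull hc G hW (W' := g ⁻¹ᵁ W) rfl
  let ψl : R' →ₗ[R] R :=
    { ψ with map_smul' := fun r r' => hψ r r' }
  let c := (TensorProduct.lid R (Sec (Coh.toGlobal (A := R) f) G W)).toLinearMap ∘ₗ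
    (ψl.rTensor (Sec (Coh.toGlobal (A := R) f) G W)) ∘ₗ (h.equiv.symm.toLinearMap.restrictScalars R)
  refine ⟨c.toAddMonoidHom, fun r m => ?_⟩
  have hm : h.equiv.symm ((secHom f' (g ⁻¹ᵁ W)).hom r • pullMap g G le_rfl m) = r ⊗ₜ[R] (show Sec (Coh.toGlobal (A := R) f) G W from m) := by
    rw [LinearEquiv.symm_apply_eq, IsBaseChange.equiv_tmul]
    rfl
  show TensorProduct.lid R _ (ψl.rTensor _ (h.equiv.symm _)) = _
  rw [hm, LinearMap.rTensor_tmul, TensorProduct.lid_tmul]
  rfl

include hc in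
theorem IsContr.map_smul' {W : X.Opens} (hW : IsAffineOpen W)
    {c : Γ((Scheme.Modules.pullback g).obj G, g ⁻¹ᵁ W) →+ Γ(G, W)}
    (h : IsContr f f' g G ψ W c) (b : Γ(X, W)) (x) :
    c (g.appLE W (g ⁻¹ᵁ W) le_rfl b • x) = b • c x := by
  refine span_induction hc hW (P := fun x => c (g.appLE W (g ⁻¹ᵁ W) le_rfl b • x) = b • c x)
    ?_ (fun r m => ?_) (fun a b' ha hb => ?_) x
  · rw [smul_zero, map_zero, smul_zero]
  · rw [h, smul_comm, ← pullMap_smul, h, smul_comm]
  · rw [smul_add, map_add, map_add, smul_add, ha, hb]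

theorem res_secHom {Y : Scheme.{u}} {S : CommRingCat.{u}} (p : Y ⟶ Spec S) {U V : Y.Opens}
    (h : V ≤ U) (r : S) :
    Y.presheaf.map (homOfLE h).op ((secHom p U).hom r) = (secHom p V).hom r := by
  rw [secHom_eq_appLE, secHom_eq_appLE]
  show (p.appLE ⊤ U le_top ≫ Y.presheaf.map (homOfLE h).op) _ = (p.appLE ⊤ V le_top) _
  rw [Scheme.Hom.appLE_map]

theorem res_secHom_smul {Y : Scheme.{u}} {S : CommRingCat.{u}} (p : Y ⟶ Spec S) (M : Y.Modules)
    {U V : Y.Opens} (h : V ≤ U) (r : S) (m : Γ(M, U)) :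
    M.presheaf.map (homOfLE h).op ((secHom p U).hom r • m) =
      (secHom p V).hom r • M.presheaf.map (homOfLE h).op m := by
  refine (M.val.map_smul (homOfLE h).op ((secHom p U).hom r) m).trans ?_
  exact congrArg (· • _) (res_secHom p h r)

include hc in
theorem IsContr.map_res {W V : X.Opens} (hW : IsAffineOpen W) (hVW : V ≤ W)
    {c : Γ((Scheme.Modules.pullback g).obj G, g ⁻¹ᵁ W) →+ Γ(G, W)}
    {d : Γ((Scheme.Modules.pullback g).obj G, g ⁻¹ᵁ V) →+ Γ(G, V)}
    (h : IsContr f f' g G ψ W c) (h' : IsContr f f' g G ψ V d) (x) :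
    d (((Scheme.Modules.pullback g).obj G).presheaf.map (homOfLE (g.preimage_mono hVW)).op x) =
      G.presheaf.map (homOfLE hVW).op (c x) := by
  refine span_induction hc hW (P := fun x =>
    d (((Scheme.Modules.pullback g).obj G).presheaf.map (homOfLE (g.preimage_mono hVW)).op x) =
      G.presheaf.map (homOfLE hVW).op (c x))
    (by simp only [map_zero]) (fun r m => ?_) (fun a b ha hb => by simp only [map_add, ha, hb]) x
  rw [res_secHom_smul, pullMap_res g G le_rfl hVW (g.preimage_mono hVW) le_rfl, h', h,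
    res_secHom_smul]

include hc in
/-- A global section of the inverse image contracts to a global section. -/
theorem exists_contr_global (hψ : ∀ (r : R) (r' : R'), ψ (φ.hom r * r') = r * ψ r')
    (σ' : Γ((Scheme.Modules.pullback g).obj G, (⊤ : X'.Opens))) :
    ∃ σ : Γ(G, (⊤ : X.Opens)), ∀ {W : X.Opens} (_ : IsAffineOpen W)
      (c : Γ((Scheme.Modules.pullback g).obj G, g ⁻¹ᵁ W) →+ Γ(G, W)), IsContr f f' g G ψ W c →
        c (((Scheme.Modules.pullback g).obj G).presheaf.map (homOfLE le_top).op σ') =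
          G.presheaf.map (homOfLE le_top).op σ := by
  classical
  choose c hcc using fun V : X.affineOpens => exists_isContr (G := G) hc hψ V.2
  let s : ∀ V : X.affineOpens, Γ(G, (V : X.Opens)) := fun V =>
    c V (((Scheme.Modules.pullback g).obj G).presheaf.map (homOfLE le_top).op σ')
  have key : ∀ (V U : X.affineOpens) (h : (U : X.Opens) ≤ V),
      G.presheaf.map (homOfLE h).op (s V) = s U := fun V U h => by
    rw [← IsContr.map_res hc V.2 h (hcc V) (hcc U)]
    exact congrArg (c U) (restr_trans _ le_top (g.preimage_mono h) σ')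
  obtain ⟨σ, hσ, -⟩ := TopCat.Sheaf.existsUnique_gluing'
    (⟨G.presheaf, G.isSheaf⟩ : TopCat.Sheaf Ab X) (fun V : X.affineOpens => (V : X.Opens))
    (⊤ : X.Opens) (fun V => homOfLE le_top)
    (fun y _ => by
      obtain ⟨_, ⟨U, hU, rfl⟩, hy, -⟩ := X.isBasis_affineOpens.exists_subset_of_mem_open
        (Set.mem_univ y) isOpen_univ
      exact Opens.mem_iSup.2 ⟨⟨U, hU⟩, hy⟩)
    s (fun V V' => by
      refine TopCat.Presheaf.section_ext (⟨G.presheaf, G.isSheaf⟩ : TopCat.Sheaf Ab X) _ _ _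
        fun y hy => ?_
      obtain ⟨_, ⟨U, hU, rfl⟩, hyU, hUV⟩ := X.isBasis_affineOpens.exists_subset_of_mem_open
        (u := (((V : X.Opens) ⊓ V' : X.Opens) : Set X)) hy ((V : X.Opens) ⊓ V').2
      refine ((G.presheaf.germ_res_apply (homOfLE hUV) y hyU _).symm.trans ?_).trans
        (G.presheaf.germ_res_apply (homOfLE hUV) y hyU _)
      refine congrArg (G.presheaf.germ U y hyU) ?_
      exact ((restr_trans G inf_le_left hUV (s V)).trans (key V ⟨U, hU⟩ _)).trans
        ((restr_trans G inf_le_right hUV (s V')).trans (key V' ⟨U, hU⟩ _)).symm)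
  refine ⟨σ, fun {W} hW d hd => ?_⟩
  rw [IsContr.ext hc hW hd (hcc ⟨W, hW⟩)]
  exact (hσ ⟨W, hW⟩).symm

include hc in
/-- Separation of jets at a maximal ideal of an affine open descends along the base change. -/
theorem forall_exists_sub_mem_iff (hψ : ∀ (r : R) (r' : R'), ψ (φ.hom r * r') = r * ψ r')
    (hψ1 : ψ 1 = 1) {W : X.Opens} (hW : IsAffineOpen W) (p : Ideal Γ(X, W))
    (p' : Ideal Γ(X', g ⁻¹ᵁ W)) (hp : p' = p.map (g.appLE W (g ⁻¹ᵁ W) le_rfl).hom) (n : ℕ) :
    (∀ m : Γ(G, W), ∃ σ : Γ(G, (⊤ : X.Opens)),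
        G.presheaf.map (homOfLE le_top).op σ - m ∈ p ^ n • (⊤ : Submodule Γ(X, W) Γ(G, W))) ↔
      ∀ m' : Γ((Scheme.Modules.pullback g).obj G, g ⁻¹ᵁ W),
        ∃ σ' : Γ((Scheme.Modules.pullback g).obj G, (⊤ : X'.Opens)),
          ((Scheme.Modules.pullback g).obj G).presheaf.map (homOfLE le_top).op σ' - m' ∈
            p' ^ n • (⊤ : Submodule Γ(X', g ⁻¹ᵁ W) Γ((Scheme.Modules.pullback g).obj G, g ⁻¹ᵁ W)) := by
  subst hp
  rw [← Ideal.map_pow]
  set q := p ^ n
  constructor
  · intro h m'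
    refine span_induction hc hW (P := fun m' =>
      ∃ σ' : Γ((Scheme.Modules.pullback g).obj G, (⊤ : X'.Opens)),
        ((Scheme.Modules.pullback g).obj G).presheaf.map (homOfLE le_top).op σ' - m' ∈
          Ideal.map (g.appLE W (g ⁻¹ᵁ W) le_rfl).hom q •
            (⊤ : Submodule Γ(X', g ⁻¹ᵁ W) Γ((Scheme.Modules.pullback g).obj G, g ⁻¹ᵁ W)))
      ⟨0, by rw [map_zero, sub_zero]; exact zero_mem _⟩ (fun r m => ?_) (fun a b ha hb => ?_) m'
    · obtain ⟨σ, hσ⟩ := h m
      refine ⟨(secHom f' ⊤).hom r • pullMap g G le_top σ, ?_⟩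
      rw [res_secHom_smul, pullMap_res g G le_top le_top le_top le_rfl, ← smul_sub, ← map_sub]
      refine Submodule.smul_mem _ _ ?_
      refine Submodule.smul_induction_on hσ (fun a ha y _ => ?_) (fun y z hy hz => ?_)
      · rw [pullMap_smul]
        exact Submodule.smul_mem_smul (Ideal.mem_map_of_mem _ ha) trivial
      · rw [map_add]; exact add_mem hy hz
    · obtain ⟨σ, hσ⟩ := ha
      obtain ⟨τ, hτ⟩ := hb
      exact ⟨σ + τ, by rw [map_add, add_sub_add_comm]; exact add_mem hσ hτ⟩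
  · intro h m
    obtain ⟨c, hcW⟩ := exists_isContr (G := G) hc hψ hW
    obtain ⟨σ', hσ'⟩ := h (pullMap g G le_rfl m)
    obtain ⟨σ, hσ⟩ := exists_contr_global hc hψ σ'
    have hc1 : c (pullMap g G le_rfl m) = m := by
      have := hcW 1 m
      rwa [hψ1, map_one, map_one, one_smul, one_smul] at this
    refine ⟨σ, ?_⟩
    rw [← hσ hW c hcW, ← hc1, ← map_sub]
    refine Submodule.smul_induction_on hσ' (fun a ha y _ => ?_) (fun y z hy hz => ?_)
    · revert y
      refine Submodule.span_induction (p := fun a _ => ∀ y, y ∈ _ → c (a • y) ∈ q • (⊤ : Submodule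
        Γ(X, W) Γ(G, W))) ?_ ?_ ?_ ?_ ha
      · rintro _ ⟨b, hb, rfl⟩ y -
        rw [IsContr.map_smul' hc hW hcW]
        exact Submodule.smul_mem_smul hb trivial
      · intro y _; rw [zero_smul, map_zero]; exact zero_mem _
      · intro a b _ _ ha hb y hy; rw [add_smul, map_add]; exact add_mem (ha y hy) (hb y hy)
      · intro a b _ hb y hy
        rw [smul_eq_mul, mul_comm, mul_smul]
        exact hb _ trivial
    · rw [map_add]; exact add_mem hy hz

end Groth.Agent.JetBCLib
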