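import Groth.Agent.JetBCLib.Contr
import Groth.Agent.JetLib.Basic

/-!
# Separation of jets at a rational point and its base change
-/

set_option autoImplicit false
set_option backward.isDefEq.respectTransparency false
set_option linter.style.haveILetI false

universe u

open CategoryTheory CategoryTheory.Limits AlgebraicGeometry TopologicalSpace Opposite
open Groth.Agent.CohBase Groth.Agent.ProjCoh Groth.Agent.FormalLib Groth.Agent.PullbackMod Groth.Agent.BCLib
open Groth.Agent.FlatLocus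
open scoped TensorProduct

noncomputable section

namespace Groth.Agent.JetBCLib

/-- Separation of jets read on an affine neighbourhood of the point. -/
theorem separatesJets_iff_affine {X : Scheme.{u}} (F : X.Modules) [Coh.IsQCoh F] {x : X}
    (hx : IsClosed ({x} : Set X)) (l : ℕ) {W : X.Opens} (hW : IsAffineOpen W) (hxW : x ∈ W)
    [(hW.primeIdealOf ⟨x, hxW⟩).asIdeal.IsMaximal] :
    W4c2seshadripos.SeparatesJets F x hx l ↔
      ∀ m : Γ(F, W), ∃ σ : Γ(F, (⊤ : X.Opens)), F.presheaf.map (homOfLE le_top).op σ - m ∈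
        (hW.primeIdealOf ⟨x, hxW⟩).asIdeal ^ (l + 1) • (⊤ : Submodule Γ(X, W) Γ(F, W)) := by
  let p := (hW.primeIdealOf ⟨x, hxW⟩).asIdeal
  letI : Algebra Γ(X, W) (X.presheaf.stalk x) := (X.presheaf.germ W x hxW).hom.toAlgebra
  letI : Module Γ(X, W) (F.presheaf.stalk x) :=
    Module.compHom _ (X.presheaf.germ W x hxW).hom
  haveI : IsScalarTower Γ(X, W) (X.presheaf.stalk x) (F.presheaf.stalk x) :=
    .of_algebraMap_smul fun _ _ => rfl
  haveI : IsLocalization.AtPrime (X.presheaf.stalk x) p := hW.isLocalization_stalk ⟨x, hxW⟩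
  haveI := isLocalizedModule_germL F hW x hxW
  rw [JetLib.separatesJets_iff hx F l]
  refine Iff.trans ?_ (forall_exists_iff (A := X.presheaf.stalk x) p (germL F W x hxW) (l + 1)
    (fun σ : Γ(F, (⊤ : X.Opens)) => F.presheaf.map (homOfLE le_top).op σ))
  refine forall_congr' fun a => exists_congr fun σ => ?_
  show _ ↔ F.presheaf.germ W x hxW _ - a ∈ _
  rw [TopCat.Presheaf.germ_res_apply]

theorem mem_prime_iff {X : Scheme.{u}} {W : X.Opens} (hW : IsAffineOpen W) {x : X} (hxW : x ∈ W)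
    (b : Γ(X, W)) : b ∈ (hW.primeIdealOf ⟨x, hxW⟩).asIdeal ↔
      X.presheaf.germ W x hxW b ∈ IsLocalRing.maximalIdeal (X.presheaf.stalk x) := by
  letI : Algebra Γ(X, W) (X.presheaf.stalk x) := (X.presheaf.germ W x hxW).hom.toAlgebra
  haveI : IsLocalization.AtPrime (X.presheaf.stalk x) (hW.primeIdealOf ⟨x, hxW⟩).asIdeal :=
    hW.isLocalization_stalk ⟨x, hxW⟩
  exact (IsLocalization.AtPrime.to_map_mem_maximal_iff (X.presheaf.stalk x)
    (hW.primeIdealOf ⟨x, hxW⟩).asIdeal b).symm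

theorem isMaximal_of_const {B : Type u} [CommRing B] {k : Type u} [Field k] (j : k →+* B)
    (p : Ideal B) (hp : p ≠ ⊤) (h : ∀ b, ∃ r, b - j r ∈ p) : p.IsMaximal := by
  refine Ideal.isMaximal_iff.2 ⟨(Ideal.ne_top_iff_one p).1 hp, fun J b hpJ hb hbJ => ?_⟩
  obtain ⟨r, hr⟩ := h b
  have hr0 : r ≠ 0 := fun h0 => hb (by simpa [h0] using hr)
  have hj : j r ∈ J := by simpa using sub_mem hbJ (hpJ hr)
  have := J.mul_mem_left (j r⁻¹) hj
  rwa [← map_mul, inv_mul_cancel₀ hr0, map_one] at this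

variable {R R' : CommRingCat.{u}} {X X' : Scheme.{u}} {f : X ⟶ Spec R} {f' : X' ⟶ Spec R'}
  {g : X' ⟶ X} {φ : R ⟶ R'}

theorem exists_const_map (hc : IsPullback g f' f (Spec.map φ)) {W : X.Opens} (hW : IsAffineOpen W)
    (p : Ideal Γ(X, W)) (h : ∀ b, ∃ r : R, b - (secHom f W).hom r ∈ p) (b' : Γ(X', g ⁻¹ᵁ W)) :
    ∃ r' : R', b' - (secHom f' (g ⁻¹ᵁ W)).hom r' ∈
      p.map (g.appLE W (g ⁻¹ᵁ W) le_rfl).hom := by
  obtain ⟨-, hpo⟩ := isPushout_secHom hc hW
  let W' := g ⁻¹ᵁ W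
  letI := φ.hom.toAlgebra
  letI : Algebra R Γ(X, W) := (secHom f W).hom.toAlgebra
  letI : Algebra R' Γ(X', W') := (secHom f' W').hom.toAlgebra
  letI : Algebra Γ(X, W) Γ(X', W') := (g.app W).hom.toAlgebra
  letI : Algebra R Γ(X', W') := ((g.app W).hom.comp (secHom f W).hom).toAlgebra
  haveI : IsScalarTower R Γ(X, W) Γ(X', W') := .of_algebraMap_eq fun _ => rfl
  haveI : IsScalarTower R R' Γ(X', W') := .of_algebraMap_eq' (congrArg CommRingCat.Hom.hom hpo.w.symm)
  haveI hP : Algebra.IsPushout R R' Γ(X, W) Γ(X', W') := CommRingCat.isPushout_iff_isPushout.mp hpo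
  rw [← Scheme.Hom.app_eq_appLE]
  obtain ⟨t, rfl⟩ := hP.out.equiv.surjective b'
  induction t using TensorProduct.induction_on with
  | zero => exact ⟨0, by rw [map_zero, map_zero, sub_zero]; exact zero_mem _⟩
  | tmul r b =>
    obtain ⟨c, hc'⟩ := h b
    refine ⟨r * φ.hom c, ?_⟩
    have hw : g.app W ((secHom f W).hom c) = (secHom f' W').hom (φ.hom c) := congr($(hpo.w).hom c).symm
    rw [IsBaseChange.equiv_tmul, map_mul, ← hw]
    show (secHom f' W').hom r * g.app W b - (secHom f' W').hom r * g.app W ((secHom f W).hom c) ∈ _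
    rw [← mul_sub, ← map_sub]
    exact Ideal.mul_mem_left _ _ (Ideal.mem_map_of_mem _ hc')
  | add u v hu hv =>
    obtain ⟨r, hr⟩ := hu
    obtain ⟨s, hs⟩ := hv
    exact ⟨r + s, by rw [map_add, map_add, add_sub_add_comm]; exact add_mem hr hs⟩

end Groth.Agent.JetBCLib
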